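import Groth.Agent.KAff28.Spec
import Groth.Agent.CohExch.FlatBC0

/-!
# Injectivity of pullback to the relative affine line on `K₀` of coherent modules
-/

set_option autoImplicit false
set_option linter.style.haveILetI false
set_option backward.isDefEq.respectTransparency false
set_option maxHeartbeats 800000

universe u

open CategoryTheory CategoryTheory.Limits AlgebraicGeometry TopologicalSpace Opposite
open Groth.Agent.Coherent Groth.Agent.PicLib Groth.Agent.AmpleLib

attribute [local instance] HasDerivedCategory.standard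

noncomputable section

namespace Groth.Agent.KAff28

open MvPolynomial in
set_option backward.isDefEq.respectTransparency.types false in
theorem flat_affine (σ : Type u) (S : Scheme.{u}) : Flat (𝔸(σ; S) ↘ S) :=
  MorphismProperty.pullback_fst _ _ <| by
  have := isIso_of_isTerminal AlgebraicGeometry.specULiftZIsTerminal.{u} terminalIsTerminal (terminal.from _)
  rw [← terminal.comp_from (Spec.map (CommRingCat.ofHom (C (σ := σ) (R := ULift.{u} ℤ)))),
    MorphismProperty.cancel_right_of_respectsIso (P := @Flat),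
    HasRingHomProperty.Spec_iff (P := @Flat)]
  show RingHom.Flat (C (σ := σ) (R := ULift.{u} ℤ))
  rw [← MvPolynomial.algebraMap_eq, RingHom.flat_algebraMap_iff]
  infer_instance

/-- Multiplication by the coordinate. -/
abbrev tMul (X : Scheme.{u}) : Coh.structureModule (Line X) ⟶ Coh.structureModule (Line X) :=
  Formal.smulModΓ (Coh.structureModule (Line X)) (tc X)

theorem mono_tMul (X : Scheme.{u}) : Mono (tMul X) := by
  refine mono_of_app_injective' _ fun V a b hab => ?_
  have key : ∀ a b : Γ(Line X, V), (tMul X).app V a = (tMul X).app V b → a = b := fun a b hab => by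
    refine sub_eq_zero.1 (injective_tc_app V (a - b) ?_)
    rw [mul_sub]
    exact sub_eq_zero.2 hab
  exact key a b hab

/-- The cokernel of the coordinate is the zero section. -/
theorem nonempty_cokernel_tMul (X : Scheme.{u}) :
    Nonempty (cokernel (tMul X) ≅ (Scheme.Modules.pushforward (sec X)).obj (Coh.structureModule X)) := by
  let J := tI X
  haveI := mono_tMul X
  have hψ : ∀ (V : (Line X).Opens) (a : Γ(Line X, V)),
      (tMul X).app V a = ((Line X).presheaf.map (homOfLE le_top).op).hom (tc X) * a := fun V a => rfl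
  have hker : ∀ (V : (Line X).affineOpens) (r : Γ(Line X, V.1)),
      J.subschemeι.app V.1 r = 0 ↔ ∃ a, (tMul X).app V.1 a = r := fun V r => by
    rw [← RingHom.mem_ker, J.ker_subschemeι_app V, tI_ideal, Ideal.mem_span_singleton]
    exact ⟨fun ⟨a, ha⟩ => ⟨a, ha.symm⟩, fun ⟨a, ha⟩ => ⟨a, ha.symm⟩⟩
  have hB := (Line X).isBasis_affineOpens
  have h0 : tMul X ≫ ClSub.toSubscheme J = 0 := by
    refine Scheme.Modules.hom_ext _ _ fun W => ConcreteCategory.hom_ext _ _ fun x => ?_
    refine sec_ext _ _ _ fun y hy => ?_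
    obtain ⟨V, hV, hyV, hVW⟩ := Opens.isBasis_iff_nbhd.mp hB hy
    refine ⟨V, hVW, hyV, ?_⟩
    rw [← app_resM, ← app_resM, show (0 : Coh.structureModule (Line X) ⟶ ClSub.quotMod J).app V
      (resM _ hVW x) = 0 from rfl]
    exact (hker ⟨V, hV⟩ _).2 ⟨resM _ hVW x, rfl⟩
  let θ : Coh.structureModule (Line X) ⟶ ClSub.idealMod J := kernel.lift (ClSub.toSubscheme J) (tMul X) h0
  have hθ : θ ≫ ClSub.idealModι J = tMul X := kernel.lift_ι _ _ _
  haveI : IsIso θ := by
    refine TwistLib.G.isIso_of_bijective_on_basis θ (fun V => IsAffineOpen V)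
      (fun W y hy => Opens.isBasis_iff_nbhd.mp hB hy) ?_
    intro V hV
    have he : ∀ x, (ClSub.idealModι J).app V (θ.app V x) = (tMul X).app V x := fun x =>
      congr(($hθ).app V x)
    refine ⟨fun x y hxy => app_injective_of_mono (tMul X) V (by rw [← he, ← he, hxy]), fun w => ?_⟩
    obtain ⟨x, hx⟩ := (hker ⟨V, hV⟩ _).1 ((mem_range_idealModι J V _).1 ⟨w, rfl⟩)
    exact ⟨x, BlowUpCoh.idealModι_injective J V ((he x).trans hx)⟩
  let T := ShortComplex.mk (ClSub.idealModι J) (ClSub.toSubscheme J) (kernel.condition (ClSub.toSubscheme J))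
  have hT : T.ShortExact := CurveRR24.shortExact_ideal J
  obtain ⟨e⟩ := nonempty_quotMod_iso X
  refine ⟨cokernel.mapIso (tMul X) (ClSub.idealModι J) (asIso θ) (Iso.refl _) (by simp [hθ]) ≪≫
    (cokernelIsCokernel _).coconePointUniqueUpToIso hT.gIsCokernel ≪≫ e⟩

/-- Pullback to the relative affine line is injective on `K₀` of coherent modules. -/
theorem injective_line (X : Scheme.{u}) [IsNoetherian X] (q : Line X ⟶ X) (hq : q = Line X ↘ X)
    [(Scheme.Modules.pullback q).Additive] [PreservesFiniteLimits (Scheme.Modules.pullback q)]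
    [PreservesFiniteColimits (Scheme.Modules.pullback q)]
    (hf : ∀ M : X.Modules, Coh.IsCoh M → Coh.IsCoh ((Scheme.Modules.pullback q).obj M)) :
    Function.Injective (SGA6.mapSub (Scheme.Modules.pullback q) (fun M : X.Modules => Coh.IsCoh M)
      (fun M : (Line X).Modules => Coh.IsCoh M) hf) := by
  haveI := isNoetherian_line X
  let Y := Set.range (sec X)
  have hY : (((Line X).basicOpen (tc X) : (Line X).Opens) : Set (Line X))ᶜ ⊆ Y := (range_sec X).symm.subset
  obtain ⟨σ, hσ⟩ := exists_sp (tc X) Y hY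
  obtain ⟨φ, hφ⟩ := KZeroLib.exists_equiv_closed (sec X)
  let g : SGA6.Kcoh X →+ SGA6.Kcoh X := φ.symm.toAddMonoidHom.comp (σ.comp
    (SGA6.mapSub (Scheme.Modules.pullback q) (fun M : X.Modules => Coh.IsCoh M)
      (fun M : (Line X).Modules => Coh.IsCoh M) hf))
  suffices hg : g = AddMonoidHom.id _ by
    intro a b hab
    have h : g a = g b := congrArg (fun y => φ.symm (σ y)) hab
    rwa [hg] at h
  refine KPerfPn28.hom_ext_sub g _ fun M hM => ?_
  refine (AddSubgroup.closure_le (g.eqLocus (AddMonoidHom.id _))).2 ?_ (KTop28.cl_mem_closure_points M hM)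
  rintro _ ⟨y, -, rfl⟩
  show g (clC (CycLib28.InterSheaf.pointSheaf y)) = clC (CycLib28.InterSheaf.pointSheaf y)
  let z := (IntMult.ptIdeal y).subschemeι
  let Z := (IntMult.ptIdeal y).subscheme
  haveI : IsLocallyNoetherian Z := LocallyOfFiniteType.isLocallyNoetherian z
  haveI : CompactSpace ↥Z := QuasiCompact.compactSpace_of_compactSpace z
  haveI : IsNoetherian Z := {}
  let w : Line Z ⟶ Line X := AffineSpace.map ι₁.{u} z
  haveI : IsClosedImmersion w :=
    MorphismProperty.of_isPullback (P := @IsClosedImmersion) (AffineSpace.isPullback_map z).flip inferInstance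
  haveI := isNoetherian_line Z
  have hc : z ≫ sec X = sec Z ≫ w := by
    refine AffineSpace.hom_ext ?_ fun i => ?_
    · simp [w, sec_over]
      exact ((sec_over_assoc Z z).trans rfl).symm
    · obtain rfl : i = ULift.up (0 : Fin 1) := Subsingleton.elim _ _
      rw [Scheme.Hom.comp_appTop, Scheme.Hom.comp_appTop, CommRingCat.comp_apply, CommRingCat.comp_apply,
        AffineSpace.map_appTop_coord]
      exact ((congrArg _ (sec_tc X)).trans (map_zero _)).trans (sec_tc Z).symm
  have hOZ : Coh.IsCoh (Coh.structureModule Z) := Coherent.isCoh_structureModule _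
  haveI : Coh.IsQCoh (Coh.structureModule Z) := hOZ.1
  haveI : IsClosedImmersion (z ≫ sec X) := inferInstance
  have hpt : Coh.IsCoh (CycLib28.InterSheaf.pointSheaf y) := Coherent.isCoh_push_finite z hOZ
  haveI : Flat q := hq ▸ flat_affine ι₁.{u} X
  -- the pullback of the point sheaf
  haveI : IsIso (CohBC.bc0 z q w (Line Z ↘ Z) _ (Coh.structureModule Z)) :=
    CohExch.isIso_bc0_of_flat_morphism (hq ▸ (AffineSpace.isPullback_map z).flip) (Coh.structureModule Z)
  obtain ⟨e₁⟩ := AmpleLib.exists_pullStructureIso (Line Z ↘ Z)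
  let e : (Scheme.Modules.pullback q).obj (CycLib28.InterSheaf.pointSheaf y) ≅
      (Scheme.Modules.pushforward w).obj (Coh.structureModule (Line Z)) :=
    asIso (CohBC.bc0 z q w (Line Z ↘ Z) _ (Coh.structureModule Z)) ≪≫ (Scheme.Modules.pushforward w).mapIso e₁
  show φ.symm (σ (SGA6.mapSub (Scheme.Modules.pullback q) (fun M : X.Modules => Coh.IsCoh M)
    (fun M : (Line X).Modules => Coh.IsCoh M) hf (clC (CycLib28.InterSheaf.pointSheaf y)))) = _
  rw [KLoc28.mapSub_clSub _ _ _ hf hpt, ← KTop28.cl_iso e.symm,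
    hσ _ (Coherent.isCoh_push_finite w (Coherent.isCoh_structureModule _)), AddEquiv.symm_apply_eq]
  refine Eq.trans ?_ (hφ _ hpt).symm
  haveI := mono_tMul Z
  have hs : Formal.smulModΓ ((Scheme.Modules.pushforward w).obj (Coh.structureModule (Line Z))) (tc X) =
      (Scheme.Modules.pushforward w).map (tMul Z) := by
    refine (push_map_smulModΓ w (tc X) (Coh.structureModule (Line Z))).symm.trans ?_
    rw [show w.appTop (tc X) = tc Z from AffineSpace.map_appTop_coord _ _]
  haveI := preservesFiniteLimits_push w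
  haveI := ExtSS.preservesFiniteColimits_pushforward w
  haveI : Mono (Formal.smulModΓ ((Scheme.Modules.pushforward w).obj (Coh.structureModule (Line Z))) (tc X)) := by
    rw [hs]; infer_instance
  obtain ⟨ec⟩ := nonempty_cokernel_tMul Z
  let ek : cokernel (Formal.smulModΓ ((Scheme.Modules.pushforward w).obj (Coh.structureModule (Line Z))) (tc X)) ≅
      (Coh.push (sec X)).obj (CycLib28.InterSheaf.pointSheaf y) :=
    cokernelIsoOfEq hs ≪≫ (PreservesCokernel.iso (Scheme.Modules.pushforward w) (tMul Z)).symm ≪≫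
      (Scheme.Modules.pushforward w).mapIso ec ≪≫
      (Scheme.Modules.pushforwardComp (sec Z) w).app _ ≪≫ (Scheme.Modules.pushforwardCongr hc.symm).app _ ≪≫
      ((Scheme.Modules.pushforwardComp z (sec X)).app _).symm
  rw [spVal, KZeroLib.clSub_isZero (isZero_kernel_of_mono _), sub_zero]
  exact KZeroLib.clSub_iso ek.symm

end Groth.Agent.KAff28
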