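import Groth.Agent.KAff28.InjLine
import Groth.Agent.P1Lib24.Basic
import Groth.Agent.S1614
import Groth.Agent.DCat.PullTensor
import Groth.Agent.KPerfPn28.Bundle
import Groth.Agent.CycLib28.InterPull
import Groth.Agent.S3192

/-!
# Surjectivity of pullback to the relative affine line on `K₀` of coherent modules
-/

set_option autoImplicit false
set_option linter.style.haveILetI false
set_option backward.isDefEq.respectTransparency false
set_option maxHeartbeats 800000

universe u

open CategoryTheory CategoryTheory.Limits AlgebraicGeometry TopologicalSpace Opposite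
open Groth.Agent.Coherent

attribute [local instance] HasDerivedCategory.standard

noncomputable section

namespace Groth.Agent.KAff28

/-- The standard chart of the projective line over the integers, in the coordinate of the affine line. -/
def cZ : Spec (CommRingCat.of (MvPolynomial ι₁.{u} (ULift.{u} ℤ))) ⟶ CohB1.ProjSpace 1 (ULift.{u} ℤ) :=
  Spec.map (CommRingCat.ofHom (MvPolynomial.renameEquiv (ULift.{u} ℤ)
    (Equiv.ofUnique PUnit.{u + 1} ι₁.{u})).toRingEquiv.toRingHom) ≫
      P1Lib24.chart (ULift.{u} ℤ) 0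

instance isOpenImmersion_cZ : IsOpenImmersion cZ.{u} := by
  have : IsIso (CommRingCat.ofHom (MvPolynomial.renameEquiv (ULift.{u} ℤ)
    (Equiv.ofUnique PUnit.{u + 1} ι₁.{u})).toRingEquiv.toRingHom) :=
    (ConcreteCategory.isIso_iff_bijective _).mpr
      (MvPolynomial.renameEquiv (ULift.{u} ℤ) (Equiv.ofUnique PUnit.{u + 1} ι₁.{u})).bijective
  unfold cZ; infer_instance

/-- The affine line inside the projective line. -/
def toP1 (X : Scheme.{u}) : Line X ⟶ KRR.PY 1 X :=
  (pullbackSymmetry (terminal.from X) (terminal.from (Spec (CommRingCat.of (MvPolynomial ι₁.{u} (ULift.{u} ℤ)))))).hom ≫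
    pullback.map _ _ _ _ cZ (𝟙 X) (specULiftZIsTerminal.from (⊤_ Scheme.{u}))
      (specULiftZIsTerminal.hom_ext _ _) (specULiftZIsTerminal.hom_ext _ _)

instance isOpenImmersion_toP1 (X : Scheme.{u}) : IsOpenImmersion (toP1 X) := by
  haveI : IsIso (specULiftZIsTerminal.from (⊤_ Scheme.{u})) :=
    isIso_of_isTerminal terminalIsTerminal specULiftZIsTerminal _
  unfold toP1; infer_instance

theorem toP1_over (X : Scheme.{u}) : toP1 X ≫ KRR.pr 1 X = (Line X ↘ X) := by
  refine (Category.assoc _ _ _).trans ?_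
  erw [pullback.lift_snd, Category.comp_id, pullbackSymmetry_hom_comp_snd]
  rfl

theorem toP1_fst (X : Scheme.{u}) :
    toP1 X ≫ pullback.fst (CohB1.ProjSpace.toSpec 1 (ULift.{u} ℤ)) (specULiftZIsTerminal.from X) =
      AffineSpace.toSpecMvPoly ι₁.{u} X ≫ cZ := by
  refine (Category.assoc _ _ _).trans ?_
  erw [pullback.lift_fst, pullbackSymmetry_hom_comp_fst_assoc]
  rfl

/-- The twists are trivial on the affine line. -/
theorem nonempty_twist_toP1 (X : Scheme.{u}) (d : ℤ) :
    Nonempty ((Scheme.Modules.pullback (toP1 X)).obj (Twist.twistOver 1 X d) ≅ Coh.structureModule (Line X)) := by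
  let 𝒜 := CohB1.polyGrading 1 (ULift.{u} ℤ)
  let f : MvPolynomial (Fin (1 + 1)) (ULift.{u} ℤ) := MvPolynomial.X 0
  let D : (CohB1.ProjSpace 1 (ULift.{u} ℤ)).Opens := Proj.basicOpen 𝒜 f
  obtain ⟨t⟩ := S1614.result 𝒜 1 Nat.one_pos f (ProjLib.X_mem_polyGrading 1 (ULift.{u} ℤ) 0) d
  rw [Nat.cast_one, mul_one] at t
  let c := cZ.{u}
  have hr : Set.range c ⊆ Set.range D.ι := by
    rw [Scheme.Opens.range_ι]
    rintro _ ⟨x, rfl⟩
    exact (Proj.opensRange_awayι 𝒜 f (ProjLib.X_mem_polyGrading 1 (ULift.{u} ℤ) 0) one_pos).le ⟨_, rfl⟩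
  let l := IsOpenImmersion.lift D.ι c hr
  have hl : toP1 X ≫ pullback.fst (CohB1.ProjSpace.toSpec 1 (ULift.{u} ℤ)) (specULiftZIsTerminal.from X) =
      (AffineSpace.toSpecMvPoly ι₁.{u} X ≫ l) ≫ D.ι := by
    rw [toP1_fst, Category.assoc, IsOpenImmersion.lift_fac]
  obtain ⟨e⟩ := AmpleLib.exists_pullStructureIso (AffineSpace.toSpecMvPoly ι₁.{u} X ≫ l)
  let T := Twist.twistProjSpace 1 (ULift.{u} ℤ) d
  exact ⟨(Scheme.Modules.pullbackComp _ _).app T ≪≫ (Scheme.Modules.pullbackCongr hl).app T ≪≫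
    ((Scheme.Modules.pullbackComp _ _).app T).symm ≪≫
    (Scheme.Modules.pullback _).mapIso (((Scheme.Modules.restrictFunctorIsoPullback D.ι).app T).symm ≪≫ t) ≪≫ e⟩

/-- Pullback to the relative affine line is surjective on `K₀` of coherent modules. -/
theorem surjective_line (X : Scheme.{u}) [IsNoetherian X] (q : Line X ⟶ X) (hq : q = Line X ↘ X)
    [(Scheme.Modules.pullback q).Additive] [PreservesFiniteLimits (Scheme.Modules.pullback q)]
    [PreservesFiniteColimits (Scheme.Modules.pullback q)]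
    (hf : ∀ M : X.Modules, Coh.IsCoh M → Coh.IsCoh ((Scheme.Modules.pullback q).obj M)) :
    Function.Surjective (SGA6.mapSub (Scheme.Modules.pullback q) (fun M : X.Modules => Coh.IsCoh M)
      (fun M : (Line X).Modules => Coh.IsCoh M) hf) := by
  let P := KRR.PY 1 X
  let p : P ⟶ X := KRR.pr 1 X
  have H := KPerfPn28.tws_projSpace 1 X
  haveI : Flat p := KPerfPn28.flat_of_tws H
  haveI : IsLocallyNoetherian P := LocallyOfFiniteType.isLocallyNoetherian p
  haveI : CompactSpace ↥P := QuasiCompact.compactSpace_of_compactSpace p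
  haveI : IsNoetherian P := {}
  haveI := DCat.FlatPull.preservesFiniteLimits_pullback p
  haveI : PreservesFiniteColimits (Scheme.Modules.pullback p) :=
    haveI := (Scheme.Modules.pullbackPushforwardAdjunction p).leftAdjoint_preservesColimits
    ⟨fun _ _ _ => inferInstance⟩
  have hp : ∀ M : X.Modules, Coh.IsCoh M → Coh.IsCoh ((Scheme.Modules.pullback p).obj M) :=
    fun M hM => CycLib28.InterSheaf.isCoh_pullback p hM
  haveI := isNoetherian_line X
  let j := toP1 X
  let R := Scheme.Modules.restrictFunctor j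
  haveI := KLoc28.preservesFiniteLimits_restrict j
  haveI := KLoc28.preservesFiniteColimits_restrict j
  have hj : ∀ M : P.Modules, Coh.IsCoh M → Coh.IsCoh (R.obj M) := fun M hM =>
    Coherent.isCoh_iso ((Scheme.Modules.restrictFunctorIsoPullback j).app M).symm (CycLib28.InterSheaf.isCoh_pullback j hM)
  let C : Closeds P := ⟨(Set.range j)ᶜ, j.isOpenEmbedding.isOpen_range.isClosed_compl⟩
  let i := (Scheme.IdealSheafData.vanishingIdeal C).subschemeι
  haveI := preservesFiniteLimits_push i
  haveI := ExtSS.preservesFiniteColimits_pushforward i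
  obtain ⟨hs, -⟩ := S3192.result i j (by
    rw [Scheme.IdealSheafData.range_subschemeι, Scheme.IdealSheafData.coe_support_vanishingIdeal]
    exact (compl_compl _).symm) (fun M hM => Coherent.isCoh_push_finite i hM) hj
  haveI := isNoetherian_line X
  intro y
  obtain ⟨z, rfl⟩ := hs y
  obtain ⟨x, rfl⟩ := (KPerfPn28.bijective_coh_free H hp).2 z
  simp only [map_sum]
  refine ⟨∑ k : Fin (1 + 1), x k, ?_⟩
  rw [map_sum]
  refine Finset.sum_congr rfl fun k _ => ?_
  symm
  refine DFunLike.congr_fun (KPerfPn28.hom_ext_sub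
    ((SGA6.mapSub R (fun M : P.Modules => Coh.IsCoh M) (fun M : (Line X).Modules => Coh.IsCoh M) hj).comp
      ((KPerfPn28.twC H ((k : ℕ) : ℤ)).comp (SGA6.mapSub (Scheme.Modules.pullback p)
        (fun M : X.Modules => Coh.IsCoh M) (fun M : P.Modules => Coh.IsCoh M) hp)))
    (SGA6.mapSub (Scheme.Modules.pullback q) (fun M : X.Modules => Coh.IsCoh M)
      (fun M : (Line X).Modules => Coh.IsCoh M) hf) fun M hM => ?_) (x k)
  show (SGA6.mapSub R (fun M : P.Modules => Coh.IsCoh M) (fun M : (Line X).Modules => Coh.IsCoh M) hj)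
    (KPerfPn28.twC H ((k : ℕ) : ℤ) (SGA6.mapSub (Scheme.Modules.pullback p) (fun M : X.Modules => Coh.IsCoh M)
      (fun M : P.Modules => Coh.IsCoh M) hp (KZero.clSub (fun M : X.Modules => Coh.IsCoh M) M))) = _
  rw [KLoc28.mapSub_clSub _ _ _ hp hM, KPerfPn28.twC_cl H _ (hp M hM),
    KLoc28.mapSub_clSub _ _ _ hj (KPerfPn28.isCoh_twist H _ _ (hp M hM)), KLoc28.mapSub_clSub _ _ _ hf hM]
  obtain ⟨t⟩ := nonempty_twist_toP1 X ((k : ℕ) : ℤ)
  refine KTop28.cl_iso ((Scheme.Modules.restrictFunctorIsoPullback j).app _ ≪≫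
    asIso (DCat.PullTensor.pullTensorHom j _ _) ≪≫
    ((DCoh.tensorBi (X := Line X)).mapIso t).app _ ≪≫ AmpleLib.unitTensorIso _ ≪≫
    (Scheme.Modules.pullbackComp j p).app M ≪≫
    (Scheme.Modules.pullbackCongr ((toP1_over X).trans hq.symm)).app M)

end Groth.Agent.KAff28
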