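import Groth.Agent.KAff28.InjLine
import Groth.Agent.KAff28.SurjLine

/-!
# Pullback to relative affine spaces on `K₀` of coherent modules
-/

set_option autoImplicit false
set_option linter.style.haveILetI false
set_option backward.isDefEq.respectTransparency false
set_option maxHeartbeats 800000

universe u

open CategoryTheory CategoryTheory.Limits AlgebraicGeometry TopologicalSpace Opposite
open Groth.Agent.Coherent

attribute [local instance] HasDerivedCategory.standard

noncomputable section

namespace Groth.Agent.KAff28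

/-- Pullback along `g` induces a bijection on `K₀` of coherent modules. -/
def BijPull {X Y : Scheme.{u}} (g : Y ⟶ X) : Prop :=
  ∃ ψ : SGA6.Kcoh X →+ SGA6.Kcoh Y, Function.Bijective ψ ∧
    ∀ M : X.Modules, Coh.IsCoh M → ψ (clC M) = clC ((Scheme.Modules.pullback g).obj M)

theorem bijPull_comp {X Y Z : Scheme.{u}} [IsLocallyNoetherian Y] [IsLocallyNoetherian Z] {g : Y ⟶ X} {h : Z ⟶ Y}
    (hg : BijPull g) (hh : BijPull h) : BijPull (h ≫ g) := by
  obtain ⟨φ, hφ, hφc⟩ := hg
  obtain ⟨ψ, hψ, hψc⟩ := hh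
  refine ⟨ψ.comp φ, hψ.comp hφ, fun M hM => ?_⟩
  show ψ (φ (clC M)) = _
  rw [hφc M hM, hψc _ (CycLib28.InterSheaf.isCoh_pullback g hM)]
  exact KTop28.cl_iso ((Scheme.Modules.pullbackComp h g).app M)

theorem bijPull_of_isIso {X Y : Scheme.{u}} [IsLocallyNoetherian X] [IsLocallyNoetherian Y] (g : Y ⟶ X) [IsIso g] :
    BijPull g := by
  have key : ∀ {A B : Scheme.{u}} [IsLocallyNoetherian A] [IsLocallyNoetherian B] (a : B ⟶ A) [IsIso a],
      ∃ ψ : SGA6.Kcoh A →+ SGA6.Kcoh B,
        ∀ M : A.Modules, Coh.IsCoh M → ψ (clC M) = clC ((Scheme.Modules.pullback a).obj M) := by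
    intro A B _ _ a _
    haveI := DCat.FlatPull.preservesFiniteLimits_pullback a
    haveI : PreservesFiniteColimits (Scheme.Modules.pullback a) :=
      haveI := (Scheme.Modules.pullbackPushforwardAdjunction a).leftAdjoint_preservesColimits
      ⟨fun _ _ _ => inferInstance⟩
    have h : ∀ M : A.Modules, Coh.IsCoh M → Coh.IsCoh ((Scheme.Modules.pullback a).obj M) :=
      fun M hM => CycLib28.InterSheaf.isCoh_pullback a hM
    exact ⟨SGA6.mapSub (Scheme.Modules.pullback a) _ _ h, fun M hM => KLoc28.mapSub_clSub _ _ _ h hM⟩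
  obtain ⟨φ, hφ⟩ := key g
  obtain ⟨ψ, hψ⟩ := key (inv g)
  have h1 : ψ.comp φ = AddMonoidHom.id _ := KPerfPn28.hom_ext_sub _ _ fun M hM => by
    show ψ (φ (clC M)) = clC M
    rw [hφ M hM, hψ _ (CycLib28.InterSheaf.isCoh_pullback g hM)]
    exact KTop28.cl_iso ((Scheme.Modules.pullbackComp (inv g) g).app M ≪≫
      (Scheme.Modules.pullbackCongr (IsIso.inv_hom_id g)).app M ≪≫ (Scheme.Modules.pullbackId X).app M)
  have h2 : φ.comp ψ = AddMonoidHom.id _ := KPerfPn28.hom_ext_sub _ _ fun M hM => by
    show φ (ψ (clC M)) = clC M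
    rw [hψ M hM, hφ _ (CycLib28.InterSheaf.isCoh_pullback (inv g) hM)]
    exact KTop28.cl_iso ((Scheme.Modules.pullbackComp g (inv g)).app M ≪≫
      (Scheme.Modules.pullbackCongr (IsIso.hom_inv_id g)).app M ≪≫ (Scheme.Modules.pullbackId Y).app M)
  exact ⟨φ, ⟨Function.LeftInverse.injective (g := ψ) fun x => DFunLike.congr_fun h1 x,
    Function.RightInverse.surjective (g := ψ) fun x => DFunLike.congr_fun h2 x⟩, hφ⟩

theorem bijPull_line (X : Scheme.{u}) [IsNoetherian X] : BijPull (Line X ↘ X) := by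
  haveI := isNoetherian_line X
  let q := Line X ↘ X
  haveI : Flat q := flat_affine ι₁.{u} X
  haveI := DCat.FlatPull.preservesFiniteLimits_pullback q
  haveI : PreservesFiniteColimits (Scheme.Modules.pullback q) :=
    haveI := (Scheme.Modules.pullbackPushforwardAdjunction q).leftAdjoint_preservesColimits
    ⟨fun _ _ _ => inferInstance⟩
  have h : ∀ M : X.Modules, Coh.IsCoh M → Coh.IsCoh ((Scheme.Modules.pullback q).obj M) :=
    fun M hM => CycLib28.InterSheaf.isCoh_pullback q hM
  exact ⟨SGA6.mapSub (Scheme.Modules.pullback q) _ _ h, ⟨injective_line X q rfl h, surjective_line X q rfl h⟩,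
    fun M hM => KLoc28.mapSub_clSub _ _ _ h hM⟩

/-- Relative affine space of dimension `r + 1` as the affine line over that of dimension `r`. -/
def splitLast (S : Scheme.{u}) (r : ℕ) :
    𝔸(ULift.{u} (Fin (r + 1)); S) ≅ Line 𝔸(ULift.{u} (Fin r); S) where
  hom := AffineSpace.homOfVector
    (AffineSpace.homOfVector (𝔸(ULift.{u} (Fin (r + 1)); S) ↘ S) fun i => AffineSpace.coord S (ULift.up i.down.castSucc))
    fun _ => AffineSpace.coord S (ULift.up (Fin.last r))
  inv := AffineSpace.homOfVector ((Line 𝔸(ULift.{u} (Fin r); S) ↘ _) ≫ (𝔸(ULift.{u} (Fin r); S) ↘ S))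
    fun i => Fin.lastCases (motive := fun _ => Γ(Line 𝔸(ULift.{u} (Fin r); S), ⊤))
      (tc 𝔸(ULift.{u} (Fin r); S))
      (fun k => (Line 𝔸(ULift.{u} (Fin r); S) ↘ _).appTop (AffineSpace.coord S (ULift.up k))) i.down
  hom_inv_id := by
    refine AffineSpace.hom_ext ?_ fun i => ?_
    · rw [Category.assoc, AffineSpace.homOfVector_over, AffineSpace.homOfVector_over_assoc,
        AffineSpace.homOfVector_over, Category.id_comp]
    · obtain ⟨i⟩ := i
      rw [Scheme.Hom.comp_appTop, CommRingCat.comp_apply, AffineSpace.homOfVector_appTop_coord,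
        Scheme.Hom.id_appTop, CommRingCat.id_apply]
      dsimp only
      induction i using Fin.lastCases with
      | last => rw [Fin.lastCases_last, tc, AffineSpace.homOfVector_appTop_coord]
      | cast k =>
        rw [Fin.lastCases_castSucc, ← CommRingCat.comp_apply, ← Scheme.Hom.comp_appTop,
          AffineSpace.homOfVector_over, AffineSpace.homOfVector_appTop_coord]
  inv_hom_id := by
    refine AffineSpace.hom_ext ?_ fun i => ?_
    · rw [Category.id_comp, Category.assoc, AffineSpace.homOfVector_over]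
      refine AffineSpace.hom_ext (by simp) fun k => ?_
      rw [Scheme.Hom.comp_appTop, CommRingCat.comp_apply, AffineSpace.homOfVector_appTop_coord,
        AffineSpace.homOfVector_appTop_coord]
      dsimp only
      rw [Fin.lastCases_castSucc]
    · obtain rfl : i = ULift.up (0 : Fin 1) := Subsingleton.elim _ _
      rw [Scheme.Hom.comp_appTop, CommRingCat.comp_apply, AffineSpace.homOfVector_appTop_coord,
        AffineSpace.homOfVector_appTop_coord, Scheme.Hom.id_appTop, CommRingCat.id_apply]
      dsimp only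
      rw [Fin.lastCases_last]
      rfl

theorem isNoetherian_affine (S : Scheme.{u}) [IsNoetherian S] (r : ℕ) : IsNoetherian 𝔸(ULift.{u} (Fin r); S) := by
  haveI : IsLocallyNoetherian 𝔸(ULift.{u} (Fin r); S) :=
    LocallyOfFiniteType.isLocallyNoetherian (𝔸(ULift.{u} (Fin r); S) ↘ S)
  haveI : CompactSpace ↥𝔸(ULift.{u} (Fin r); S) :=
    QuasiCompact.compactSpace_of_compactSpace (𝔸(ULift.{u} (Fin r); S) ↘ S)
  exact {}

/-- Homotopy invariance for affine spaces of any dimension. -/
theorem bijPull_affine (S : Scheme.{u}) [IsNoetherian S] :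
    ∀ r : ℕ, BijPull (𝔸(ULift.{u} (Fin r); S) ↘ S) := by
  intro r
  induction r with
  | zero =>
    haveI : IsIso (𝔸(ULift.{u} (Fin 0); S) ↘ S) :=
      ⟨AffineSpace.homOfVector (𝟙 S) fun i => i.down.elim0,
        AffineSpace.hom_ext (by simp) fun i => i.down.elim0, AffineSpace.homOfVector_over _ _⟩
    haveI := isNoetherian_affine S 0
    exact bijPull_of_isIso _
  | succ r ih =>
    haveI := isNoetherian_affine S r
    haveI := isNoetherian_affine S (r + 1)
    haveI := isNoetherian_line 𝔸(ULift.{u} (Fin r); S)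
    have h := bijPull_comp (bijPull_comp ih (bijPull_line 𝔸(ULift.{u} (Fin r); S)))
      (bijPull_of_isIso (splitLast S r).hom)
    rwa [show (splitLast S r).hom ≫ (Line 𝔸(ULift.{u} (Fin r); S) ↘ _) ≫ (𝔸(ULift.{u} (Fin r); S) ↘ S) =
      (𝔸(ULift.{u} (Fin (r + 1)); S) ↘ S) from by
        show AffineSpace.homOfVector _ _ ≫ _ ≫ _ = _
        rw [AffineSpace.homOfVector_over_assoc, AffineSpace.homOfVector_over]] at h

end Groth.Agent.KAff28
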