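import Mathlib
import Groth.Agent.BlowUpCoh.IdealPush
import Groth.Agent.CurveRR24.Sky
import Groth.Agent.KRR28.Sect
import Groth.Prelude.Def_Formal

/-!
# The zero section of the relative affine line and its ideal sequence
-/

set_option autoImplicit false
set_option linter.style.haveILetI false
set_option backward.isDefEq.respectTransparency false
set_option maxHeartbeats 800000

universe u

open CategoryTheory CategoryTheory.Limits AlgebraicGeometry TopologicalSpace Opposite
open Groth.Agent.Coherent Groth.Agent.PicLib Groth.Agent.AmpleLib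

noncomputable section

namespace Groth.Agent.KAff28

/-- The index type of one coordinate. -/
abbrev ι₁ : Type u := ULift.{u} (Fin 1)

/-- The relative affine line. -/
abbrev Line (X : Scheme.{u}) : Scheme.{u} := 𝔸(ι₁.{u}; X)

/-- The coordinate of the affine line. -/
def tc (X : Scheme.{u}) : Γ(Line X, ⊤) := AffineSpace.coord X (ULift.up (0 : Fin 1))

/-- The zero section. -/
def sec (X : Scheme.{u}) : X ⟶ Line X := AffineSpace.homOfVector (𝟙 X) (fun _ => 0)

@[reassoc]
theorem sec_over (X : Scheme.{u}) : sec X ≫ (Line X ↘ X) = 𝟙 X := AffineSpace.homOfVector_over _ _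

theorem sec_tc (X : Scheme.{u}) : (sec X).appTop (tc X) = 0 := AffineSpace.homOfVector_appTop_coord _ _ _

instance isClosedImmersion_sec (X : Scheme.{u}) : IsClosedImmersion (sec X) :=
  haveI : IsClosedImmersion (sec X ≫ (Line X ↘ X)) := by rw [sec_over]; infer_instance
  IsClosedImmersion.of_comp (sec X) (Line X ↘ X)

/-- The ideal generated by the coordinate. -/
def tI (X : Scheme.{u}) : (Line X).IdealSheafData := Scheme.IdealSheafData.ofIdealTop (Ideal.span {tc X})

theorem tI_ideal (X : Scheme.{u}) (U : (Line X).affineOpens) :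
    (tI X).ideal U = Ideal.span {((Line X).presheaf.map (homOfLE le_top).op).hom (tc X)} := by
  rw [tI, Scheme.IdealSheafData.ofIdealTop_ideal, Ideal.map_span, Set.image_singleton]

theorem tI_le_ker (X : Scheme.{u}) : tI X ≤ (sec X).ker := by
  intro U
  rw [tI_ideal, Ideal.span_le, Set.singleton_subset_iff, Scheme.Hom.ker_apply, SetLike.mem_coe, RingHom.mem_ker,
    ← CommRingCat.comp_apply, (sec X).naturality, CommRingCat.comp_apply]
  exact (congrArg _ (sec_tc X)).trans (map_zero _)

theorem subschemeι_tc (X : Scheme.{u}) : (tI X).subschemeι.appTop (tc X) = 0 := by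
  let Z := (tI X).subscheme
  let f := (tI X).subschemeι
  refine Z.sheaf.eq_of_locally_eq' (fun U : (Line X).affineOpens => f ⁻¹ᵁ U.1) ⊤
    (fun U => homOfLE le_top) (fun z _ => ?_) _ _ fun U => ?_
  · obtain ⟨U, hU, hz, -⟩ := exists_isAffineOpen_mem_and_subset (show f z ∈ (⊤ : (Line X).Opens) from trivial)
    exact Opens.mem_iSup.2 ⟨⟨U, hU⟩, hz⟩
  · show (f.appTop ≫ Z.presheaf.map (homOfLE le_top).op) (tc X) = (Z.presheaf.map (homOfLE le_top).op) 0
    rw [map_zero]
    have h : f.appTop ≫ Z.presheaf.map (homOfLE (le_top : f ⁻¹ᵁ U.1 ≤ ⊤)).op =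
        (Line X).presheaf.map (homOfLE le_top).op ≫ f.app U.1 :=
      (f.naturality (homOfLE (le_top : U.1 ≤ ⊤)).op).symm
    rw [h, CommRingCat.comp_apply, ← RingHom.mem_ker, (tI X).ker_subschemeι_app U, tI_ideal]
    exact Ideal.mem_span_singleton_self _

/-- The zero locus of the coordinate is the zero section. -/
theorem nonempty_quotMod_iso (X : Scheme.{u}) :
    Nonempty (ClSub.quotMod (tI X) ≅ (Scheme.Modules.pushforward (sec X)).obj (Coh.structureModule X)) := by
  let f := (tI X).subschemeι
  let a : (tI X).subscheme ⟶ X := f ≫ (Line X ↘ X)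
  have ha : a ≫ sec X = f := by
    refine AffineSpace.hom_ext ?_ fun i => ?_
    · simp [a, sec_over]
    · obtain rfl : i = ULift.up (0 : Fin 1) := Subsingleton.elim _ _
      rw [Scheme.Hom.comp_appTop, CommRingCat.comp_apply]
      refine ((congrArg _ (sec_tc X)).trans (map_zero _)).trans ?_
      exact (subschemeι_tc X).symm
  have hle : f.ker ≤ (sec X).ker := by rw [Scheme.IdealSheafData.ker_subschemeι]; exact tI_le_ker X
  let l : X ⟶ (tI X).subscheme := IsClosedImmersion.lift f (sec X) hle
  have hl : l ≫ f = sec X := IsClosedImmersion.lift_fac _ _ _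
  haveI : IsIso a := ⟨l, by rw [← cancel_mono f, Category.assoc, hl, ha, Category.id_comp],
    by simp only [a]; rw [← Category.assoc, hl, sec_over]⟩
  haveI := KRR28.isIso_unitMap_of_isIso a
  exact ⟨(Scheme.Modules.pushforwardCongr ha.symm).app _ ≪≫
    ((Scheme.Modules.pushforwardComp a (sec X)).app _).symm ≪≫
    (Scheme.Modules.pushforward (sec X)).mapIso (asIso (StMod.unitMap a)).symm⟩

theorem range_sec (X : Scheme.{u}) :
    Set.range (sec X) = (((Line X).basicOpen (tc X) : (Line X).Opens) : Set (Line X))ᶜ := by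
  have h1 : Set.range (sec X) ⊆ ((tI X).support : Set (Line X)) := fun x hx =>
    Scheme.IdealSheafData.support_antitone (tI_le_ker X) ((sec X).range_subset_ker_support hx)
  refine Set.Subset.antisymm (fun x hx => ?_) fun x hx => ?_
  · have := h1 hx
    rw [tI, Scheme.IdealSheafData.coe_support_ofIdealTop, Scheme.zeroLocus_span, Scheme.zeroLocus_singleton] at this
    exact this
  · have hx' : x ∈ ((tI X).support : Set (Line X)) := by
      rw [tI, Scheme.IdealSheafData.coe_support_ofIdealTop, Scheme.zeroLocus_span, Scheme.zeroLocus_singleton]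
      exact hx
    rw [← (tI X).range_subschemeι] at hx'
    obtain ⟨z, rfl⟩ := hx'
    let a : (tI X).subscheme ⟶ X := (tI X).subschemeι ≫ (Line X ↘ X)
    refine ⟨a z, ?_⟩
    have ha : a ≫ sec X = (tI X).subschemeι := by
      refine AffineSpace.hom_ext ?_ fun i => ?_
      · simp [a, sec_over]
      · obtain rfl : i = ULift.up (0 : Fin 1) := Subsingleton.elim _ _
        rw [Scheme.Hom.comp_appTop, CommRingCat.comp_apply]
        exact ((congrArg _ (sec_tc X)).trans (map_zero _)).trans (subschemeι_tc X).symm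
    rw [← ha]; rfl

section Regular

variable {X : Scheme.{u}}

theorem mono_of_app_injective' {Y : Scheme.{u}} {M N : Y.Modules} (φ : M ⟶ N)
    (h : ∀ W : Y.Opens, Function.Injective (φ.app W)) : Mono φ :=
  ⟨fun g g' e => Scheme.Modules.hom_ext _ _ fun W => by
    ext a
    exact h W (congr($e |>.app W a))⟩

theorem mul_eq_zero_of_X {R σ : Type*} [CommRing R] {i : σ} {p : MvPolynomial σ R} (h : MvPolynomial.X i * p = 0) :
    p = 0 := by
  classical
  ext m
  have := congrArg (MvPolynomial.coeff (Finsupp.single i 1 + m)) h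
  rwa [MvPolynomial.coeff_X_mul, MvPolynomial.coeff_zero] at this

theorem isRegular_tc_affine [IsAffine X] (a : Γ(Line X, ⊤)) (h : tc X * a = 0) : a = 0 := by
  let e := AffineSpace.isoOfIsAffine ι₁.{u} X
  have hinj : Function.Injective e.inv.appTop := (ConcreteCategory.bijective_of_isIso _).1
  refine hinj ?_
  have hX : e.inv.appTop (tc X) = (Scheme.ΓSpecIso _).inv (MvPolynomial.X (ULift.up (0 : Fin 1))) :=
    AffineSpace.isoOfIsAffine_inv_appTop_coord _ _
  have h' := congrArg e.inv.appTop h
  rw [map_mul, map_zero, hX] at h'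
  rw [map_zero]
  have h'' := congrArg (Scheme.ΓSpecIso (CommRingCat.of (MvPolynomial ι₁.{u} Γ(X, ⊤)))).hom h'
  rw [map_mul, map_zero, Iso.inv_hom_id_apply] at h''
  have h3 : (Scheme.ΓSpecIso (CommRingCat.of (MvPolynomial ι₁.{u} Γ(X, ⊤)))).hom (e.inv.appTop a) = 0 :=
    (mul_eq_zero_of_X h'')
  exact (ConcreteCategory.bijective_of_isIso _).1 (h3.trans (map_zero _).symm)

theorem injective_germ_tc (x : Line X) (a : (Line X).presheaf.stalk x)
    (h : (Line X).presheaf.germ ⊤ x trivial (tc X) * a = 0) : a = 0 := by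
  obtain ⟨V, hV, hxV, -⟩ := exists_isAffineOpen_mem_and_subset (show (Line X ↘ X) x ∈ (⊤ : X.Opens) from trivial)
  haveI : IsAffine V.toScheme := hV
  let j : Line V.toScheme ⟶ Line X := AffineSpace.map ι₁.{u} V.ι
  haveI : IsOpenImmersion j :=
    MorphismProperty.of_isPullback (P := @IsOpenImmersion) (AffineSpace.isPullback_map V.ι).flip inferInstance
  obtain ⟨y, rfl⟩ : x ∈ Set.range j := by
    obtain ⟨y, hy, -⟩ := Scheme.exists_preimage_of_isPullback (AffineSpace.isPullback_map (n := ι₁.{u}) V.ι) x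
      (⟨_, hxV⟩ : V.toScheme) rfl
    exact ⟨y, hy⟩
  haveI : IsAffine (Line V.toScheme) := isAffine_of_isAffineHom (Line V.toScheme ↘ V.toScheme)
  refine (ConcreteCategory.bijective_of_isIso (j.stalkMap y)).1 ?_
  have h' := congrArg (j.stalkMap y) h
  rw [map_mul, map_zero, Scheme.Hom.germ_stalkMap_apply] at h'
  rw [map_zero]
  have hj : j.app ⊤ (tc X) = tc V.toScheme := AffineSpace.map_appTop_coord _ _
  change (Line V.toScheme).presheaf.germ ⊤ y trivial (j.app ⊤ (tc X)) * j.stalkMap y a = 0 at h'
  rw [hj] at h'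
  have hreg : IsSMulRegular Γ(Line V.toScheme, ⊤) (tc V.toScheme) := fun b c hbc => by
    have := isRegular_tc_affine (b - c) (by rw [mul_sub]; exact sub_eq_zero.2 hbc)
    exact sub_eq_zero.1 this
  algebraize [((Line V.toScheme).presheaf.germ ⊤ y trivial).hom]
  haveI : IsLocalization.AtPrime ((Line V.toScheme).presheaf.stalk y)
      ((isAffineOpen_top (Line V.toScheme)).primeIdealOf ⟨y, trivial⟩).asIdeal :=
    (isAffineOpen_top (Line V.toScheme)).isLocalization_stalk ⟨y, trivial⟩
  haveI : Module.Flat Γ(Line V.toScheme, ⊤) ((Line V.toScheme).presheaf.stalk y) :=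
    IsLocalization.flat _ ((isAffineOpen_top (Line V.toScheme)).primeIdealOf ⟨y, trivial⟩).asIdeal.primeCompl
  exact (hreg.of_flat (S := (Line V.toScheme).presheaf.stalk y)) (h'.trans (mul_zero _).symm)

theorem injective_tc_app (V : (Line X).Opens) (a : Γ(Line X, V))
    (h : ((Line X).presheaf.map (homOfLE le_top).op).hom (tc X) * a = 0) : a = 0 := by
  refine TopCat.Presheaf.section_ext (Line X).sheaf V _ _ fun x hx => ?_
  rw [map_zero]
  refine injective_germ_tc x _ ?_
  have h' := congrArg ((Line X).presheaf.germ V x hx) h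
  rw [map_mul, map_zero] at h'
  rw [← h', TopCat.Presheaf.germ_res_apply]
  rfl

/-- The sequence `0 → O → O → s_* O → 0` of the coordinate. -/
theorem exists_ses (X : Scheme.{u}) : ∃ T : ShortComplex (Line X).Modules, T.ShortExact ∧
    Nonempty (T.X₁ ≅ Coh.structureModule (Line X)) ∧ Nonempty (T.X₂ ≅ Coh.structureModule (Line X)) ∧
    Nonempty (T.X₃ ≅ (Scheme.Modules.pushforward (sec X)).obj (Coh.structureModule X)) := by
  let O := Coh.structureModule (Line X)
  let ψ : O ⟶ O := Formal.smulModΓ O (tc X)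
  have hψ : ∀ (V : (Line X).Opens) (a : Γ(Line X, V)),
      ψ.app V a = ((Line X).presheaf.map (homOfLE le_top).op).hom (tc X) * a := fun V a => rfl
  haveI : Mono ψ := by
    refine mono_of_app_injective' ψ fun V a b hab => ?_
    have key : ∀ a b : Γ(Line X, V), ψ.app V a = ψ.app V b → a = b := fun a b hab => by
      refine sub_eq_zero.1 (injective_tc_app V (a - b) ?_)
      rw [mul_sub]
      exact sub_eq_zero.2 (((hψ V a).symm.trans hab).trans (hψ V b))
    exact key a b hab
  obtain ⟨e⟩ := BlowUpCoh.nonempty_iso_idealMod_of_basis (tI X) ψ (fun V => IsAffineOpen V)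
    (Line X).isBasis_affineOpens (fun V hV => hV) fun V hV r => by
      rw [tI_ideal, Ideal.mem_span_singleton]
      exact ⟨fun ⟨a, ha⟩ => ⟨a, ha.symm⟩, fun ⟨a, ha⟩ => ⟨a, ha.symm⟩⟩
  exact ⟨_, CurveRR24.shortExact_ideal (tI X), ⟨e.symm⟩, ⟨Iso.refl _⟩, nonempty_quotMod_iso X⟩

end Regular

end Groth.Agent.KAff28
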