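import Groth.Agent.KAff28.Torus
import Groth.Agent.KZeroLib.DevissageClosed
import Groth.Agent.KZeroLib.DerivedEuler
import Groth.Agent.Coherent.HigherQcoh

/-!
# Specialisation of coherent classes along a global function
-/

set_option autoImplicit false
set_option linter.style.haveILetI false
set_option backward.isDefEq.respectTransparency false
set_option maxHeartbeats 800000

universe u v w

open CategoryTheory CategoryTheory.Limits AlgebraicGeometry TopologicalSpace Opposite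
open Groth.Agent.Coherent

attribute [local instance] HasDerivedCategory.standard

noncomputable section

namespace Groth.Agent.KAff28

section Six

variable {C : Type w} [Category.{v} C] [Abelian C] {P : ObjectProperty C}
  [P.IsClosedUnderIsomorphisms] [P.IsClosedUnderKernels] [P.ContainsZero]

/-- The alternating sum of the classes in the six-term sequence of a snake input vanishes. -/
theorem clSub_snake (S : ShortComplex.SnakeInput C) [Mono S.L₁.f] [Epi S.L₂.g]
    (h₁ : P S.L₀.X₁) (h₂ : P S.L₀.X₂) (h₃ : P S.L₀.X₃) (k₁ : P S.L₃.X₁) (k₂ : P S.L₃.X₂) (k₃ : P S.L₃.X₃) :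
    KZero.clSub P S.L₃.X₂ - KZero.clSub P S.L₀.X₂ =
      (KZero.clSub P S.L₃.X₁ - KZero.clSub P S.L₀.X₁) + (KZero.clSub P S.L₃.X₃ - KZero.clSub P S.L₀.X₃) := by
  have e₁ := KZeroLib.clSub_exact S.L₀.f S.L₀.g S.L₀.zero S.L₀_exact h₁ h₂ h₃
  have e₂ := KZeroLib.clSub_exact S.L₀.g S.δ S.L₀_g_δ S.L₁'_exact h₂ h₃ k₁
  have e₃ := KZeroLib.clSub_exact S.δ S.L₃.f S.δ_L₃_f S.L₂'_exact h₃ k₁ k₂
  have e₄ := KZeroLib.clSub_exact S.L₃.f S.L₃.g S.L₃.zero S.L₃_exact k₁ k₂ k₃
  have e₅ := KZeroLib.clSub_exact S.L₃.g (0 : S.L₃.X₃ ⟶ S.L₃.X₃) comp_zero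
    ((ShortComplex.exact_iff_epi _ rfl).2 inferInstance) k₂ k₃ k₃
  rw [KZeroLib.clSub_isZero (isZero_kernel_of_mono S.L₀.f)] at e₁
  rw [KZeroLib.clSub_iso (kernelZeroIsoSource (X := S.L₃.X₃) (Y := S.L₃.X₃)).symm] at e₅
  rw [e₁, e₂, e₃, e₄, e₅]
  abel

end Six

variable {L : Scheme.{u}}

/-- A module killed by a function is supported away from the locus where it is invertible. -/
theorem support_subset_of_smul {M : L.Modules} {t : Γ(L, ⊤)} (h : Formal.smulModΓ M t = 0) :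
    CohB1.support M ⊆ ((L.basicOpen t : L.Opens) : Set L)ᶜ := fun x hx hxt => by
  refine hx (subsingleton_of_forall_eq 0 fun m => ?_)
  obtain ⟨V, hxV, s, rfl⟩ := M.presheaf.exists_germ_eq m
  let W : L.Opens := V ⊓ L.basicOpen t
  have hxW : x ∈ W := ⟨hxV, hxt⟩
  rw [← M.presheaf.germ_res_apply (homOfLE (inf_le_left : W ≤ V)) x hxW s]
  have hu : IsUnit ((L.presheaf.map (homOfLE (le_top : W ≤ ⊤)).op).hom t) := by
    have := (L.toRingedSpace.isUnit_res_basicOpen t).map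
      (L.presheaf.map (homOfLE (inf_le_right : W ≤ L.basicOpen t)).op).hom
    convert this using 1
    exact (ConcreteCategory.congr_hom (L.presheaf.map_comp (homOfLE (le_top : L.basicOpen t ≤ ⊤)).op
      (homOfLE (inf_le_right : W ≤ L.basicOpen t)).op) t)
  let s' : Γ(M, W) := M.presheaf.map (homOfLE (inf_le_left : W ≤ V)).op s
  have h0 : ((L.presheaf.map (homOfLE (le_top : W ≤ ⊤)).op).hom t : Γ(L, W)) • s' = 0 :=
    congr(($h).app W s')
  obtain ⟨c, hc⟩ := hu
  rw [← hc] at h0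
  have hs : s' = 0 := by
    have := congrArg (fun z => (↑c⁻¹ : Γ(L, W)) • z) h0
    simpa [smul_smul] using this
  change M.presheaf.germ W x hxW s' = 0
  rw [hs, map_zero]

variable [IsLocallyNoetherian L]

theorem cohSupp_kernel_smul {M : L.Modules} (hM : Coh.IsCoh M) (t : Γ(L, ⊤)) {Y : Set L}
    (hY : ((L.basicOpen t : L.Opens) : Set L)ᶜ ⊆ Y) : KZeroLib.cohSupp L Y (kernel (Formal.smulModΓ M t)) := by
  refine ⟨Coherent.isCoh_kernel _ hM hM.1, (support_subset_of_smul ?_).trans hY⟩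
  rw [← cancel_mono (kernel.ι (Formal.smulModΓ M t)), zero_comp,
    ← smulModΓ_comm, kernel.condition]

theorem cohSupp_cokernel_smul {M : L.Modules} (hM : Coh.IsCoh M) (t : Γ(L, ⊤)) {Y : Set L}
    (hY : ((L.basicOpen t : L.Opens) : Set L)ᶜ ⊆ Y) : KZeroLib.cohSupp L Y (cokernel (Formal.smulModΓ M t)) := by
  refine ⟨Coherent.isCoh_cokernel _ hM.1 hM, (support_subset_of_smul ?_).trans hY⟩
  rw [← cancel_epi (cokernel.π (Formal.smulModΓ M t)), comp_zero, smulModΓ_comm, cokernel.condition]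

/-- The class of the derived restriction to the zero locus of a function. -/
def spVal (t : Γ(L, ⊤)) (Y : Set L) (M : L.Modules) : KZero.K0sub (KZeroLib.cohSupp L Y) :=
  KZero.clSub _ (cokernel (Formal.smulModΓ M t)) - KZero.clSub _ (kernel (Formal.smulModΓ M t))

theorem spVal_ses {S : ShortComplex L.Modules} (hS : S.ShortExact) (h₁ : Coh.IsCoh S.X₁) (h₂ : Coh.IsCoh S.X₂)
    (h₃ : Coh.IsCoh S.X₃) (t : Γ(L, ⊤)) {Y : Set L} (hY : ((L.basicOpen t : L.Opens) : Set L)ᶜ ⊆ Y) :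
    spVal t Y S.X₂ = spVal t Y S.X₁ + spVal t Y S.X₃ := by
  let v : S ⟶ S := ShortComplex.homMk (Formal.smulModΓ S.X₁ t) (Formal.smulModΓ S.X₂ t) (Formal.smulModΓ S.X₃ t)
    (smulModΓ_comm t S.f).symm (smulModΓ_comm t S.g).symm
  let D : ShortComplex.SnakeInput L.Modules :=
    { L₀ := kernel v
      L₁ := S
      L₂ := S
      L₃ := cokernel v
      v₀₁ := kernel.ι v
      v₁₂ := v
      v₂₃ := cokernel.π v
      w₀₂ := kernel.condition v
      w₁₃ := cokernel.condition v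
      h₀ := kernelIsKernel v
      h₃ := cokernelIsCokernel v
      L₁_exact := hS.exact
      epi_L₁_g := hS.epi_g
      L₂_exact := hS.exact
      mono_L₂_f := hS.mono_f }
  haveI : Mono D.L₁.f := hS.mono_f
  haveI : Epi D.L₂.g := hS.epi_g
  let P := KZeroLib.cohSupp L Y
  let a₁ : (kernel v).X₁ ≅ kernel (Formal.smulModΓ S.X₁ t) := PreservesKernel.iso ShortComplex.π₁ v
  let a₂ : (kernel v).X₂ ≅ kernel (Formal.smulModΓ S.X₂ t) := PreservesKernel.iso ShortComplex.π₂ v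
  let a₃ : (kernel v).X₃ ≅ kernel (Formal.smulModΓ S.X₃ t) := PreservesKernel.iso ShortComplex.π₃ v
  let b₁ : (cokernel v).X₁ ≅ cokernel (Formal.smulModΓ S.X₁ t) := PreservesCokernel.iso ShortComplex.π₁ v
  let b₂ : (cokernel v).X₂ ≅ cokernel (Formal.smulModΓ S.X₂ t) := PreservesCokernel.iso ShortComplex.π₂ v
  let b₃ : (cokernel v).X₃ ≅ cokernel (Formal.smulModΓ S.X₃ t) := PreservesCokernel.iso ShortComplex.π₃ v
  have := clSub_snake (P := P) D (P.prop_of_iso a₁.symm (cohSupp_kernel_smul h₁ t hY))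
    (P.prop_of_iso a₂.symm (cohSupp_kernel_smul h₂ t hY)) (P.prop_of_iso a₃.symm (cohSupp_kernel_smul h₃ t hY))
    (P.prop_of_iso b₁.symm (cohSupp_cokernel_smul h₁ t hY)) (P.prop_of_iso b₂.symm (cohSupp_cokernel_smul h₂ t hY))
    (P.prop_of_iso b₃.symm (cohSupp_cokernel_smul h₃ t hY))
  show KZero.clSub P _ - KZero.clSub P _ = (KZero.clSub P _ - KZero.clSub P _) + (KZero.clSub P _ - KZero.clSub P _)
  rw [KZeroLib.clSub_iso a₁, KZeroLib.clSub_iso a₂, KZeroLib.clSub_iso a₃, KZeroLib.clSub_iso b₁,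
    KZeroLib.clSub_iso b₂, KZeroLib.clSub_iso b₃]
  exact this

/-- The specialisation homomorphism. -/
theorem exists_sp (t : Γ(L, ⊤)) (Y : Set L) (hY : ((L.basicOpen t : L.Opens) : Set L)ᶜ ⊆ Y) :
    ∃ σ : SGA6.Kcoh L →+ KZero.K0sub (KZeroLib.cohSupp L Y),
      ∀ M : L.Modules, Coh.IsCoh M → σ (clC M) = spVal t Y M := by
  let s₀ : FreeAbelianGroup {M : L.Modules // Coh.IsCoh M} →+ KZero.K0sub (KZeroLib.cohSupp L Y) :=
    FreeAbelianGroup.lift fun M => spVal t Y M.1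
  have hs : KZero.relSub (fun M : L.Modules => Coh.IsCoh M) ≤ s₀.ker := by
    rw [KZero.relSub, AddSubgroup.closure_le]
    rintro _ ⟨S, h₁, h₂, h₃, hS, rfl⟩
    rw [SetLike.mem_coe, AddMonoidHom.mem_ker, map_sub, map_sub, FreeAbelianGroup.lift_apply_of,
      FreeAbelianGroup.lift_apply_of, FreeAbelianGroup.lift_apply_of]
    rw [spVal_ses hS h₁ h₂ h₃ t hY]
    abel
  refine ⟨QuotientAddGroup.lift _ s₀ hs, fun M hM => ?_⟩
  rw [clC, KZero.clSub, dif_pos hM]
  exact FreeAbelianGroup.lift_apply_of (fun M : {M : L.Modules // Coh.IsCoh M} => spVal t Y M.1) ⟨M, hM⟩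

end Groth.Agent.KAff28
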