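import Groth.Agent.KAff28.Line
import Groth.Agent.KTop28.Basic
import Groth.Agent.ExtSS.ClosedHom
import Groth.Agent.KPerfPn28.CohFree
import Groth.Agent.S3192

/-!
# Restriction from the affine line to the torus on `K₀` of coherent modules
-/

set_option autoImplicit false
set_option linter.style.haveILetI false
set_option backward.isDefEq.respectTransparency false
set_option maxHeartbeats 800000

universe u

open CategoryTheory CategoryTheory.Limits AlgebraicGeometry TopologicalSpace
open Groth.Agent.Coherent

attribute [local instance] HasDerivedCategory.standard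

noncomputable section

namespace Groth.Agent.KAff28

/-- The class of a coherent module. -/
abbrev clC {X : Scheme.{u}} (M : X.Modules) : SGA6.Kcoh X := KZero.clSub (fun M : X.Modules => Coh.IsCoh M) M

theorem preservesFiniteLimits_push {A B : Scheme.{u}} (f : A ⟶ B) :
    PreservesFiniteLimits (Scheme.Modules.pushforward f) :=
  haveI : PreservesLimitsOfSize.{0, 0} (Scheme.Modules.pushforward f) :=
    (Scheme.Modules.pullbackPushforwardAdjunction f).rightAdjoint_preservesLimits
  inferInstance

/-- Direct image along a closed immersion on classes. -/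
def pushK {A B : Scheme.{u}} (f : A ⟶ B) [IsClosedImmersion f] : SGA6.Kcoh A →+ SGA6.Kcoh B :=
  haveI := preservesFiniteLimits_push f
  haveI := ExtSS.preservesFiniteColimits_pushforward f
  SGA6.mapSub (Scheme.Modules.pushforward f) _ _ fun _ hM => Coherent.isCoh_push_finite f hM

theorem pushK_cl {A B : Scheme.{u}} (f : A ⟶ B) [IsClosedImmersion f] {M : A.Modules} (hM : Coh.IsCoh M) :
    pushK f (clC M) = clC ((Scheme.Modules.pushforward f).obj M) := by
  haveI := preservesFiniteLimits_push f
  haveI := ExtSS.preservesFiniteColimits_pushforward f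
  exact KLoc28.mapSub_clSub _ _ _ (fun _ hM => Coherent.isCoh_push_finite f hM) hM

theorem isNoetherian_line (X : Scheme.{u}) [IsNoetherian X] : IsNoetherian (Line X) := by
  haveI : IsLocallyNoetherian (Line X) := LocallyOfFiniteType.isLocallyNoetherian (Line X ↘ X)
  haveI : CompactSpace ↥(Line X) := QuasiCompact.compactSpace_of_compactSpace (Line X ↘ X)
  exact {}

theorem pushK_pushK {A B C : Scheme.{u}} (f : A ⟶ B) (g : B ⟶ C) (h : A ⟶ C) [IsClosedImmersion f]
    [IsClosedImmersion g] [IsClosedImmersion h] [IsLocallyNoetherian A] [IsLocallyNoetherian C] (e : f ≫ g = h)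
    (x : SGA6.Kcoh A) : pushK g (pushK f x) = pushK h x := by
  refine DFunLike.congr_fun (KPerfPn28.hom_ext_sub ((pushK g).comp (pushK f)) (pushK h) fun M hM => ?_) x
  rw [AddMonoidHom.comp_apply, pushK_cl f hM, pushK_cl g (Coherent.isCoh_push_finite f hM), pushK_cl h hM]
  exact KTop28.cl_iso ((Scheme.Modules.pushforwardComp f g).app M ≪≫ (Scheme.Modules.pushforwardCongr e).app M)

/-- The zero section of the structure sheaf has class zero. -/
theorem pushK_sec_structure (X : Scheme.{u}) [IsNoetherian X] :
    pushK (sec X) (clC (Coh.structureModule X)) = 0 := by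
  haveI := isNoetherian_line X
  obtain ⟨T, hT, ⟨e₁⟩, ⟨e₂⟩, ⟨e₃⟩⟩ := exists_ses X
  have hO : Coh.IsCoh (Coh.structureModule (Line X)) := Coherent.isCoh_structureModule _
  have hS : Coh.IsCoh ((Scheme.Modules.pushforward (sec X)).obj (Coh.structureModule X)) :=
    Coherent.isCoh_push_finite (sec X) (Coherent.isCoh_structureModule _)
  have h := KTop28.cl_ses hT (isCoh_iso e₁.symm hO) (isCoh_iso e₂.symm hO) (isCoh_iso e₃.symm hS)
  rw [KTop28.cl_iso e₁, KTop28.cl_iso e₂, KTop28.cl_iso e₃] at h
  rw [pushK_cl _ (Coherent.isCoh_structureModule _)]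
  exact left_eq_add.1 h

/-- Classes supported on the zero section vanish. -/
theorem pushK_sec_eq_zero (X : Scheme.{u}) [IsNoetherian X] (x : SGA6.Kcoh X) : pushK (sec X) x = 0 := by
  haveI := isNoetherian_line X
  refine DFunLike.congr_fun (KPerfPn28.hom_ext_sub (pushK (sec X)) 0 fun M hM => ?_) x
  refine (AddSubgroup.closure_le (pushK (sec X)).ker).2 ?_ (KTop28.cl_mem_closure_points M hM)
  rintro _ ⟨y, -, rfl⟩
  show pushK (sec X) (clC (CycLib28.InterSheaf.pointSheaf y)) = 0
  let z := (IntMult.ptIdeal y).subschemeι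
  let Z := (IntMult.ptIdeal y).subscheme
  haveI : IsLocallyNoetherian Z := LocallyOfFiniteType.isLocallyNoetherian z
  haveI : CompactSpace ↥Z := QuasiCompact.compactSpace_of_compactSpace z
  haveI : IsNoetherian Z := {}
  let w : Line Z ⟶ Line X := AffineSpace.map ι₁.{u} z
  haveI : IsClosedImmersion w :=
    MorphismProperty.of_isPullback (P := @IsClosedImmersion) (AffineSpace.isPullback_map z).flip inferInstance
  haveI := isNoetherian_line Z
  have hc : z ≫ sec X = sec Z ≫ w := by
    refine AffineSpace.hom_ext ?_ fun i => ?_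
    · simp [w, sec_over]
      exact ((sec_over_assoc Z z).trans rfl).symm
    · obtain rfl : i = ULift.up (0 : Fin 1) := Subsingleton.elim _ _
      rw [Scheme.Hom.comp_appTop, Scheme.Hom.comp_appTop, CommRingCat.comp_apply, CommRingCat.comp_apply,
        AffineSpace.map_appTop_coord]
      exact ((congrArg _ (sec_tc X)).trans (map_zero _)).trans (sec_tc Z).symm
  haveI : IsClosedImmersion (z ≫ sec X) := inferInstance
  have h0 : pushK z (clC (Coh.structureModule Z)) = clC (CycLib28.InterSheaf.pointSheaf y) :=
    pushK_cl z (Coherent.isCoh_structureModule _)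
  rw [← h0, pushK_pushK z (sec X) (z ≫ sec X) rfl, ← pushK_pushK (sec Z) w (z ≫ sec X) hc.symm,
    pushK_sec_structure, map_zero]

/-- Restriction to the complement of the zero section is bijective. -/
theorem bijective_restrict_torus (X : Scheme.{u}) [IsNoetherian X] {U : Scheme.{u}}
    (j : U ⟶ Line X) [IsOpenImmersion j] (hU : Set.range j = ((Line X).basicOpen (tc X) : Set (Line X)))
    [PreservesFiniteLimits (Scheme.Modules.restrictFunctor j)]
    (hj : ∀ M : (Line X).Modules, Coh.IsCoh M → Coh.IsCoh ((Scheme.Modules.restrictFunctor j).obj M)) :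
    Function.Bijective (SGA6.mapSub (Scheme.Modules.restrictFunctor j) (fun M : (Line X).Modules => Coh.IsCoh M)
      (fun M : U.Modules => Coh.IsCoh M) hj) := by
  haveI := isNoetherian_line X
  haveI := preservesFiniteLimits_push (sec X)
  haveI := ExtSS.preservesFiniteColimits_pushforward (sec X)
  obtain ⟨h1, h2⟩ := S3192.result (sec X) j (by rw [hU, range_sec, compl_compl])
    (fun M hM => Coherent.isCoh_push_finite (sec X) hM) hj
  refine ⟨(injective_iff_map_eq_zero _).2 fun x hx => ?_, h1⟩
  have hm : x ∈ (SGA6.mapSub (Scheme.Modules.restrictFunctor j) (fun M : (Line X).Modules => Coh.IsCoh M)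
      (fun M : U.Modules => Coh.IsCoh M) hj).ker := hx
  rw [h2] at hm
  obtain ⟨a, rfl⟩ := hm
  exact pushK_sec_eq_zero X a

end Groth.Agent.KAff28
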